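import Groth.Agent.Lib.EtColim.SmallSite
import Mathlib.Algebra.Homology.DerivedCategory.Ext.MapBijective

/-!
# Étale cohomology of quasi-compact quasi-separated schemes commutes with filtered colimits
-/

set_option autoImplicit false
set_option backward.isDefEq.respectTransparency false
universe u

open CategoryTheory CategoryTheory.Limits AlgebraicGeometry Opposite Abelian
open GrothLib.EtSite GrothLib.SheafCoh

noncomputable section

namespace GrothLib.EtColim

variable {X : Scheme.{u}}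

/-- Transport to the small model. -/
abbrev E (X : Scheme.{u}) : EtCoh.Ab X ≌ Sheaf (JS X) AddCommGrpCat.{u + 1} :=
  (eS X).sheafCongr X.smallEtaleTopology (JS X) AddCommGrpCat.{u + 1}

instance additive_E : (E X).functor.Additive := Functor.additive_of_preserves_binary_products _

instance preservesFiniteLimits_E : PreservesFiniteLimits (E X).functor := inferInstance

instance preservesFiniteColimits_E : PreservesFiniteColimits (E X).functor := inferInstance

instance preservesInjectiveObjects_E : (E X).functor.PreservesInjectiveObjects :=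
  Functor.preservesInjectiveObjects_of_adjunction_of_preservesMonomorphisms (E X).symm.toAdjunction

/-- The constant sheaf `ℤ`. -/
abbrev Z (X : Scheme.{u}) : EtCoh.Ab X := EtCoh.const X ℤ

/-- The top object of the small model. -/
abbrev topS (X : Scheme.{u}) : S X := ULiftHom.up.obj (EtCoh.top X)

/-- The canonical global section of `ℤ`. -/
def one (X : Scheme.{u}) : (Z X).obj.obj (op (EtCoh.top X)) :=
  (EtCore.constAdj X).unit.app (AddCommGrpCat.of (ULift.{u + 1} ℤ)) ⟨1⟩

/-- Evaluation at the canonical section. -/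
def evOne (F : EtCoh.Ab X) (a : Z X ⟶ F) : EtCoh.sect F (EtCoh.top X) :=
  a.hom.app (op (EtCoh.top X)) (one X)

theorem bijective_evOne (F : EtCoh.Ab X) : Function.Bijective (evOne F) := by
  let A := AddCommGrpCat.of (ULift.{u + 1} ℤ)
  let e := (EtCore.constAdj X).homEquiv A F
  have he : ∀ a : Z X ⟶ F, evOne F a = e a ⟨1⟩ := fun a => by
    rw [show e a = (EtCore.constAdj X).unit.app A ≫ (EtCore.gsec X).map a from
      Adjunction.homEquiv_unit _ _ _ _]
    rfl
  refine ⟨fun a b h => e.injective ?_, fun s => ?_⟩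
  · rw [he, he] at h
    ext ⟨m⟩
    have hm : (⟨m⟩ : ULift.{u + 1} ℤ) = m • (⟨1⟩ : ULift.{u + 1} ℤ) := by
      ext
      simp
    change (e a) (⟨m⟩ : ULift.{u + 1} ℤ) = (e b) (⟨m⟩ : ULift.{u + 1} ℤ)
    rw [hm, map_zsmul, map_zsmul, h]
  · let φ : A ⟶ (EtCore.gsec X).obj F :=
      AddCommGrpCat.ofHom ((zmultiplesHom _ s).comp AddEquiv.ulift.toAddMonoidHom)
    refine ⟨e.symm φ, (he _).trans ?_⟩
    rw [e.apply_symm_apply]
    exact one_zsmul s

/-- The comparison of the free sheaf on the top object with `ℤ`. -/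
def freeToZ (X : Scheme.{u}) : freeY (JS X) (topS X) ⟶ (E X).functor.obj (Z X) :=
  (homFreeY ((E X).functor.obj (Z X)) (topS X)).symm (one X)

theorem bijective_precomp_freeToZ (H : Sheaf (JS X) AddCommGrpCat.{u + 1}) :
    Function.Bijective fun a : (E X).functor.obj (Z X) ⟶ H => freeToZ X ≫ a := by
  have key : ∀ F : EtCoh.Ab X,
      Function.Bijective fun a : (E X).functor.obj (Z X) ⟶ (E X).functor.obj F => freeToZ X ≫ a := by
    intro F
    have hc : ∀ b : Z X ⟶ F, homFreeY _ (topS X) (freeToZ X ≫ (E X).functor.map b) = evOne F b :=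
      fun b => by
        rw [homFreeY_comp, freeToZ, AddEquiv.apply_symm_apply]
        rfl
    refine ⟨fun a a' h => ?_, fun c => ?_⟩
    · obtain ⟨b, rfl⟩ := (E X).functor.map_surjective a
      obtain ⟨b', rfl⟩ := (E X).functor.map_surjective a'
      exact congrArg _ ((bijective_evOne F).1 ((hc b).symm.trans ((congrArg _ h).trans (hc b'))))
    · obtain ⟨b, hb⟩ := (bijective_evOne F).2 (homFreeY _ (topS X) c)
      exact ⟨(E X).functor.map b, (homFreeY _ (topS X)).injective ((hc b).trans hb)⟩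
  let e := (E X).counitIso.app H
  refine ⟨fun a a' h => ?_, fun c => ?_⟩
  · rw [← cancel_mono e.inv]
    refine (key _).1 ?_
    exact ((Category.assoc _ _ _).symm.trans (congrArg (· ≫ e.inv) h)).trans (Category.assoc _ _ _)
  · obtain ⟨a, ha⟩ := (key _).2 (c ≫ e.inv)
    exact ⟨a ≫ e.hom, ((Category.assoc _ _ _).symm.trans (congrArg (· ≫ e.hom) ha)).trans
      ((Category.assoc _ _ _).trans ((congrArg (c ≫ ·) e.inv_hom_id).trans (Category.comp_id c)))⟩

instance isIso_freeToZ : IsIso (freeToZ X) :=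
  isIso_iff_coyoneda_map_bijective _ |>.2 fun H => bijective_precomp_freeToZ H

theorem top_mem_B [CompactSpace X] [QuasiSeparatedSpace X] : topS X ∈ B X :=
  ⟨inferInstanceAs (CompactSpace X), inferInstanceAs (QuasiSeparatedSpace X)⟩

variable [CompactSpace X] [QuasiSeparatedSpace X] {I : Type (u + 1)} [SmallCategory I] [IsFiltered I]

theorem sections_gen_kill (D : I ⥤ EtCoh.Ab X) :
    ColimCoh.Gen (Z X) 0 D ∧ ColimCoh.Kill (Z X) 0 D := by
  obtain ⟨hg, hk⟩ := ColimCoh.sections_colimit cov_h1 cov_h2 (D ⋙ (E X).functor)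
    (isColimitOfPreserves (E X).functor (colimit.isColimit D)) (top_mem_B (X := X))
  have hev : ∀ {F G : EtCoh.Ab X} (a : Z X ⟶ F) (φ : F ⟶ G),
      φ.hom.app (op (EtCoh.top X)) (evOne F a) = evOne G (a ≫ φ) := fun a φ => rfl
  refine ⟨fun x => ?_, fun i y hy => ?_⟩
  · obtain ⟨x, rfl⟩ := (Ext.mk₀_bijective (Z X) (colimit D)).2 x
    obtain ⟨i, s, hs⟩ := hg (evOne _ x)
    obtain ⟨a, rfl⟩ := (bijective_evOne (D.obj i)).2 s
    exact ⟨i, Ext.mk₀ a, (Ext.mk₀_comp_mk₀ a _).trans
      (congrArg Ext.mk₀ ((bijective_evOne _).1 ((hev a _).symm.trans hs)))⟩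
  · obtain ⟨y, rfl⟩ := (Ext.mk₀_bijective (Z X) (D.obj i)).2 y
    rw [Ext.mk₀_comp_mk₀, Ext.mk₀_eq_zero_iff] at hy
    obtain ⟨j, f, hf⟩ := hk i (evOne _ y) ((hev y (colimit.ι D i)).trans ((congrArg (evOne (colimit D)) hy).trans rfl))
    refine ⟨j, f, ?_⟩
    rw [Ext.mk₀_comp_mk₀, Ext.mk₀_eq_zero_iff]
    exact (bijective_evOne _).1 (((hev y (D.map f)).symm.trans hf).trans rfl)

theorem subsingleton_ext_colimit (D : I ⥤ EtCoh.Ab X) (hD : ∀ i, Injective (D.obj i)) (n : ℕ) :
    Subsingleton (Ext.{u + 1} (Z X) (colimit D) (n + 1)) := by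
  let e : (E X).functor.obj (colimit D) ≅ colimit (D ⋙ (E X).functor) :=
    (isColimitOfPreserves (E X).functor (colimit.isColimit D)).coconePointUniqueUpToIso
    (colimit.isColimit (D ⋙ (E X).functor))
  have hinj : ∀ i, Injective ((D ⋙ (E X).functor).obj i) := fun i =>
    (E X).functor.injective_obj_of_injective (hD i)
  have h1 : Subsingleton (Ext.{u + 1} (freeY (JS X) (topS X)) (colimit (D ⋙ (E X).functor)) (n + 1)) := by
    refine @Equiv.subsingleton _ _ (HUext _ (n + 1) (topS X)).toEquiv.symm ?_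
    exact Cech.cartan_site (B X) (Cov X)
      (fun V κ Y hY => ⟨(cov_h1 V κ Y hY).2.1, (cov_h1 V κ Y hY).2.2.1, (cov_h1 V κ Y hY).2.2.2⟩)
      cov_h2 _ (fun V κ Y hY q => ColimCoh.isZero_cechH_colimit cov_h1 cov_h2 _ hinj V κ Y hY q)
      (topS X) top_mem_B n
  have h2 : Subsingleton (Ext.{u + 1} ((E X).functor.obj (Z X)) ((E X).functor.obj (colimit D)) (n + 1)) := by
    have : IsIso (freeToZ X) := inferInstance
    refine ⟨fun x y => ?_⟩
    have hz : ∀ z : Ext.{u + 1} ((E X).functor.obj (Z X)) ((E X).functor.obj (colimit D)) (n + 1),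
        z = ((Ext.mk₀ (inv (freeToZ X))).comp (((Ext.mk₀ (freeToZ X)).comp z (zero_add _)).comp
          (Ext.mk₀ e.hom) (add_zero _)) (zero_add _)).comp (Ext.mk₀ e.inv) (add_zero _) := fun z => by
      rw [Ext.comp_assoc_of_third_deg_zero, Ext.comp_assoc_of_third_deg_zero, Ext.mk₀_comp_mk₀,
        e.hom_inv_id, Ext.comp_mk₀_id, Ext.mk₀_comp_mk₀_assoc, IsIso.inv_hom_id, Ext.mk₀_id_comp]
    rw [hz x, hz y, @Subsingleton.elim _ h1 (((Ext.mk₀ (freeToZ X)).comp x (zero_add _)).comp
      (Ext.mk₀ e.hom) (add_zero _)) (((Ext.mk₀ (freeToZ X)).comp y (zero_add _)).comp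
      (Ext.mk₀ e.hom) (add_zero _))]
  exact ((E X).functor.mapExt_bijective_of_preservesInjectiveObjects (Z X) (colimit D) (n + 1)).1.subsingleton

/-- Ext groups out of `ℤ` commute with filtered colimits, in concrete form. -/
theorem gen_and_kill (D : I ⥤ EtCoh.Ab X) (p : ℕ) :
    ColimCoh.Gen (Z X) p D ∧ ColimCoh.Kill (Z X) p D :=
  ColimCoh.gen_and_kill (A := EtCoh.Ab X) (Z X) (fun F => sections_gen_kill F)
    (fun F hF q => subsingleton_ext_colimit F hF q) p D

theorem HF_map_apply {F G : EtCoh.Ab X} (f : F ⟶ G) (n : ℕ) (x : EtCoh.H X F n) :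
    (EtCoh.HF X n).map f x = Ext.comp x (Ext.mk₀ f) (add_zero n) := rfl

theorem preservesColimitsOfShape_HF (n : ℕ) : PreservesColimitsOfShape I (EtCoh.HF X n) := by
  refine ⟨fun {D} => preservesColimit_of_preserves_colimit_cocone (colimit.isColimit D) ?_⟩
  obtain ⟨hg, hk⟩ := gen_and_kill D n
  let Φ := EtCoh.HF X n
  have : ReflectsColimit (D ⋙ Φ) (forget AddCommGrpCat.{u + 1}) :=
    reflectsColimit_of_reflectsIsomorphisms _ _
  apply isColimitOfReflects (forget AddCommGrpCat.{u + 1})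
  refine Types.FilteredColimit.isColimitOf _ _ (fun x => ?_) (fun i j xi xj h => ?_)
  · obtain ⟨i, y, hy⟩ := hg x
    exact ⟨i, y, hy.symm⟩
  · let k := IsFiltered.max i j
    let a : i ⟶ k := IsFiltered.leftToMax i j
    let b : j ⟶ k := IsFiltered.rightToMax i j
    let d : Φ.obj (D.obj k) := (Φ.map (D.map a)).hom xi - (Φ.map (D.map b)).hom xj
    have hd : (Φ.map (colimit.ι D k)).hom d = 0 := by
      rw [map_sub, ← ConcreteCategory.comp_apply, ← ConcreteCategory.comp_apply, ← Φ.map_comp,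
        ← Φ.map_comp, colimit.w, colimit.w, sub_eq_zero]
      exact h
    obtain ⟨l, g, hl⟩ := hk k d hd
    refine ⟨l, a ≫ g, b ≫ g, ?_⟩
    have h0 : (Φ.map (D.map g)).hom d = 0 := hl
    rw [map_sub, sub_eq_zero, ← ConcreteCategory.comp_apply, ← ConcreteCategory.comp_apply,
      ← Φ.map_comp, ← Φ.map_comp, ← D.map_comp, ← D.map_comp] at h0
    exact h0

omit I

attribute [local instance] uliftCategory in
/-- The same for small index categories. -/
theorem preservesColimitsOfShape_HF_small (n : ℕ) (J : Type u) [SmallCategory J] [IsFiltered J] :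
    PreservesColimitsOfShape J (EtCoh.HF X n) := by
  let e : ULiftHom.{u + 1} (ULift.{u + 1} J) ≌ J := (ULiftHomULiftCategory.equiv.{u + 1, u + 1} J).symm
  have : IsFiltered (ULiftHom.{u + 1} (ULift.{u + 1} J)) := IsFiltered.of_equivalence e.symm
  have := preservesColimitsOfShape_HF (X := X) (I := ULiftHom.{u + 1} (ULift.{u + 1} J)) n
  exact preservesColimitsOfShape_of_equiv e _

end GrothLib.EtColim
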