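import Groth.Agent.Lib.ColimCoh.Site
import Groth.Agent.Lib.EtSite.SiteNbhd
import Groth.Agent.Lib.EtSite.ConnFibres
import Groth.Prelude.Def_EtCore
import Mathlib.CategoryTheory.Sites.Equivalence
import Mathlib.CategoryTheory.Limits.Constructions.Over.Products

/-!
# A small model of the small etale site and its quasi-compact quasi-separated objects
-/

set_option autoImplicit false
set_option backward.isDefEq.respectTransparency false
universe u

open CategoryTheory CategoryTheory.Limits AlgebraicGeometry Opposite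
open GrothLib.EtSite

noncomputable section

namespace GrothLib.EtColim

/-- The small etale site with morphisms lifted one universe. -/
abbrev S (X : Scheme.{u}) : Type (u + 1) := ULiftHom.{u + 1} X.Etale

variable {X : Scheme.{u}}

/-- The equivalence with the small etale site. -/
abbrev eS (X : Scheme.{u}) : X.Etale ≌ S X := ULiftHom.equiv

/-- The topology on the small model. -/
abbrev JS (X : Scheme.{u}) : GrothendieckTopology (S X) :=
  (eS X).inverse.inducedTopology X.smallEtaleTopology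

theorem mem_JS_iff {U : S X} (T : Sieve U) :
    T ∈ JS X U ↔ T.functorPushforward (eS X).inverse ∈ X.smallEtaleTopology ((eS X).inverse.obj U) :=
  Functor.mem_inducedTopology_iff_of_isCoverDense _ _ _

instance hasPullbacks_S : HasPullbacks (S X) :=
  Adjunction.hasLimitsOfShape_of_equivalence (eS X).inverse

/-- The underlying scheme functor. -/
abbrev sch (X : Scheme.{u}) : S X ⥤ Scheme.{u} :=
  (eS X).inverse ⋙ Scheme.Etale.forget X ⋙ Over.forget X

instance preservesPullbacks_sch : PreservesLimitsOfShape WalkingCospan (sch X) :=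
  comp_preservesLimitsOfShape _ _

/-- Quasi-compact and quasi-separated objects. -/
def B (X : Scheme.{u}) : Set (S X) :=
  {U | CompactSpace ↥((sch X).obj U) ∧ QuasiSeparatedSpace ↥((sch X).obj U)}

/-- Finite covering families of such objects. -/
def Cov (X : Scheme.{u}) (U : S X) (ι : Type (u + 1)) (Y : ι → Over U) : Prop :=
  Finite ι ∧ U ∈ B X ∧ (∀ i, (Y i).left ∈ B X) ∧
    Sieve.ofArrows (fun i => (Y i).left) (fun i => (Y i).hom) ∈ JS X U

theorem mem_B_of_iso {U V : S X} (e : U ≅ V) (h : U ∈ B X) : V ∈ B X := by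
  let φ := Scheme.homeoOfIso ((sch X).mapIso e)
  obtain ⟨h1, h2⟩ := h
  exact ⟨φ.compactSpace, (quasiSeparatedSpace_congr φ).1 h2⟩

theorem mem_B_of_isPullback {P A A' U : S X} {p : P ⟶ A} {p' : P ⟶ A'} {a : A ⟶ U} {a' : A' ⟶ U}
    (h : IsPullback p p' a a') (hA : A ∈ B X) (hA' : A' ∈ B X) (hU : U ∈ B X) : P ∈ B X := by
  obtain ⟨hA1, hA2⟩ := hA
  obtain ⟨hA1', hA2'⟩ := hA'
  obtain ⟨hU1, hU2⟩ := hU
  have hs := h.map (sch X)
  have hq : QuasiCompact ((sch X).map a') := quasiCompact_of_compactSpace _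
  have hqs : QuasiSeparated ((sch X).map a') := by
    have : QuasiSeparated (((sch X).map a') ≫ terminal.from _) := by
      rw [terminalIsTerminal.hom_ext (((sch X).map a') ≫ terminal.from _) (terminal.from _),
        ← quasiSeparatedSpace_iff_quasiSeparated]
      exact hA2'
    exact QuasiSeparated.of_comp _ (terminal.from _)
  have h1 : QuasiCompact ((sch X).map p) := MorphismProperty.of_isPullback hs.flip hq
  have h2 : QuasiSeparated ((sch X).map p) := MorphismProperty.of_isPullback hs.flip hqs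
  exact ⟨QuasiCompact.compactSpace_of_compactSpace ((sch X).map p),
    quasiSeparatedSpace_of_quasiSeparated ((sch X).map p)⟩

theorem prod_mem_B {U : S X} (hU : U ∈ B X) :
    ∀ (n : ℕ) (Y : Fin (n + 1) → Over U), (∀ k, (Y k).left ∈ B X) → (∏ᶜ Y).left ∈ B X := by
  intro n
  induction n with
  | zero =>
    intro Y hY
    have e : (∏ᶜ Y) ≅ Y 0 :=
      { hom := Pi.π Y 0
        inv := Pi.lift fun k => eqToHom (congrArg Y (Fin.fin_one_eq_zero k).symm)
        hom_inv_id := Pi.hom_ext _ _ fun k => by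
          obtain rfl : k = 0 := Fin.fin_one_eq_zero k
          simp
        inv_hom_id := by simp }
    exact mem_B_of_iso ((Over.forget U).mapIso e.symm) (hY 0)
  | succ n ih =>
    intro Y hY
    let T : Fin (n + 1) → Over U := fun k => Y k.succ
    let tail : (∏ᶜ Y) ⟶ ∏ᶜ T := Pi.lift fun k => Pi.π Y k.succ
    have htail : ∀ k, tail ≫ Pi.π T k = Pi.π Y k.succ := fun k => Pi.lift_π _ k
    let c : BinaryFan (Y 0) (∏ᶜ T) := BinaryFan.mk (Pi.π Y 0) tail
    let m : ∀ {W : Over U}, (W ⟶ Y 0) → (W ⟶ ∏ᶜ T) → ∀ k : Fin (n + 1 + 1), W ⟶ Y k :=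
      fun {W} f g k => Fin.cases (motive := fun k => W ⟶ Y k) f (fun k => g ≫ Pi.π T k) k
    have hc : IsLimit c := BinaryFan.IsLimit.mk c
      (fun f g => Pi.lift (m f g))
      (fun f g => Pi.lift_π (m f g) 0)
      (fun f g => Pi.hom_ext _ _ fun k => by
        change (Pi.lift (m f g) ≫ tail) ≫ Pi.π T k = g ≫ Pi.π T k
        rw [Category.assoc, htail, Pi.lift_π]
        rfl)
      (fun f g l h1 h2 => Pi.hom_ext (f := Y) l (Pi.lift (m f g)) fun k => by
        rw [Pi.lift_π]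
        change l ≫ Pi.π Y 0 = f at h1
        change l ≫ tail = g at h2
        induction k using Fin.cases with
        | zero => exact h1
        | succ j =>
          rw [← htail j, ← Category.assoc, h2]
          rfl)
    exact mem_B_of_isPullback (Over.isPullback_of_binaryFan_isLimit c hc) (hY 0)
      (ih T fun k => hY k.succ) hU

theorem cov_h1 : ∀ (U : S X) (ι : Type (u + 1)) (Y : ι → Over U), Cov X U ι Y → Finite ι ∧ U ∈ B X ∧
    Sieve.ofArrows (fun i => (Y i).left) (fun i => (Y i).hom) ∈ JS X U ∧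
    ∀ (p : ℕ) (a : Fin (p + 1) → ι), (∏ᶜ fun k => Y (a k)).left ∈ B X :=
  fun _ _ _ ⟨hf, hU, hY, hc⟩ => ⟨hf, hU, hc, fun p a => prod_mem_B hU p _ fun k => hY (a k)⟩

theorem cov_h2 : ∀ U ∈ B X, ∀ T ∈ JS X U, ∃ (ι : Type (u + 1)) (Y : ι → Over U),
    Cov X U ι Y ∧ ∀ i, T.arrows (Y i).hom := by
  intro U hU T hT
  obtain ⟨hU1, hU2⟩ := hU
  rw [mem_JS_iff] at hT
  let U₀ : X.Etale := (eS X).inverse.obj U
  have key : ∀ x : U₀.left, ∃ (W : X.Etale) (g : W ⟶ U₀),
      CompactSpace W.left ∧ QuasiSeparatedSpace W.left ∧ T ((⟨g⟩ : ULiftHom.up.obj W ⟶ U)) ∧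
        x ∈ Set.range g.left.base := by
    intro x
    obtain ⟨V, g, v, hg, rfl⟩ := (mem_topology_iff _).1 hT x
    obtain ⟨_, ⟨A, hA, rfl⟩, hvA, -⟩ :=
      V.left.isBasis_affineOpens.exists_subset_of_mem_open (Set.mem_univ v) isOpen_univ
    let A₀ : V.left.Opens := A
    have : IsAffine A₀.toScheme := hA
    refine ⟨opensObj V A₀, opensHom V A₀ ≫ g, inferInstanceAs (CompactSpace A₀.toScheme),
      inferInstanceAs (QuasiSeparatedSpace A₀.toScheme), ?_, ⟨⟨v, hvA⟩, rfl⟩⟩
    obtain ⟨W, h, k, hh, hk⟩ := hg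
    let h' : ULiftHom.up.obj (opensObj V A₀) ⟶ W := ⟨opensHom V A₀ ≫ k⟩
    have e : (⟨opensHom V A₀ ≫ g⟩ : ULiftHom.up.obj (opensObj V A₀) ⟶ U) = h' ≫ h :=
      ULift.ext _ _ ((congrArg (opensHom V A₀ ≫ ·) hk).trans (Category.assoc _ _ _).symm)
    rw [e]
    exact T.downward_closed hh h'
  choose W g hc hq hT' hx using key
  have : CompactSpace U₀.left := hU1
  have hopen : ∀ x, IsOpen (Set.range (g x).left.base) := fun x => by
    have : Etale (g x).left := GrothLib.ConnFibres.etale_left (g x)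
    exact (g x).left.isOpenMap.isOpen_range
  obtain ⟨t, ht⟩ := isCompact_univ.elim_finite_subcover _ hopen
    (fun x _ => Set.mem_iUnion.2 ⟨x, hx x⟩)
  let ι := ULift.{u + 1} (t : Set U₀.left)
  let Y : ι → Over U := fun i => Over.mk (⟨g i.down.1⟩ : ULiftHom.up.obj (W i.down.1) ⟶ U)
  refine ⟨ι, Y, ⟨inferInstance, ⟨hU1, hU2⟩, fun i => ⟨hc i.down.1, hq i.down.1⟩, ?_⟩,
    fun i => hT' i.down.1⟩
  rw [mem_JS_iff, mem_topology_iff]
  intro x
  obtain ⟨y, hy, hxy⟩ := Set.mem_iUnion₂.1 (ht (Set.mem_univ x))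
  obtain ⟨w, hw⟩ := hxy
  exact ⟨W y, g y, w, ⟨(Y ⟨⟨y, hy⟩⟩).left, (Y ⟨⟨y, hy⟩⟩).hom, 𝟙 _,
    Sieve.ofArrows_mk (fun i => (Y i).left) (fun i => (Y i).hom) ⟨⟨y, hy⟩⟩,
    (Category.id_comp _).symm⟩, hw⟩

end GrothLib.EtColim
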